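import Groth.Prelude.Def_W4c1hurwitzcptBd
import Mathlib.RingTheory.FiniteType
import Mathlib.RingTheory.MvPolynomial.Basic

/-!
Based algebra structures are represented by a finitely generated algebra.
-/

set_option autoImplicit false

universe u

open W4c1hurwitzcpt MvPolynomial

noncomputable section

namespace Groth.Agent.BasedAlgRep

variable (d : ℕ) (K : Type u) [CommRing K]

/-- Variables: structure constants and coordinates of the unit. -/
abbrev Var : Type := (Fin d × Fin d × Fin d) ⊕ Fin d

/-- The generic structure constant. -/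
def gc (i j k : Fin d) : MvPolynomial (Var d) K := X (Sum.inl (i, j, k))

/-- The generic unit coordinate. -/
def gu (i : Fin d) : MvPolynomial (Var d) K := X (Sum.inr i)

/-- The defining relations. -/
def rels : Ideal (MvPolynomial (Var d) K) :=
  Ideal.span
    ((Set.range fun t : Fin d × Fin d × Fin d =>
        gc d K t.1 t.2.1 t.2.2 - gc d K t.2.1 t.1 t.2.2) ∪
      (Set.range fun t : Fin d × Fin d × Fin d × Fin d =>
        (∑ k, gc d K t.1 t.2.1 k * gc d K k t.2.2.1 t.2.2.2) -
          ∑ k, gc d K t.2.1 t.2.2.1 k * gc d K t.1 k t.2.2.2) ∪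
      (Set.range fun t : Fin d × Fin d =>
        (∑ i, gu d K i * gc d K i t.1 t.2) - if t.1 = t.2 then 1 else 0))

/-- The representing algebra. -/
abbrev Rep : Type u := MvPolynomial (Var d) K ⧸ rels d K

variable {d K}

theorem BasedAlg.ext' {A : Type u} [CommRing A] {s t : BasedAlg d A} (hc : s.c = t.c) (hu : s.u = t.u) :
    s = t := by
  cases s; cases t; cases hc; cases hu; rfl

/-- The universal structure. -/
def univ : BasedAlg d (Rep d K) where
  c i j k := Ideal.Quotient.mk _ (gc d K i j k)
  u i := Ideal.Quotient.mk _ (gu d K i)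
  comm i j k := Ideal.Quotient.eq.2 (Ideal.subset_span (Or.inl (Or.inl ⟨(i, j, k), rfl⟩)))
  assoc i j l m := by
    simp only [← map_mul, ← map_sum]
    exact Ideal.Quotient.eq.2 (Ideal.subset_span (Or.inl (Or.inr ⟨(i, j, l, m), rfl⟩)))
  unit j m := by
    simp only [← map_mul, ← map_sum]
    rw [show (if j = m then (1 : Rep d K) else 0) =
      Ideal.Quotient.mk (rels d K) (if j = m then 1 else 0) by split <;> simp]
    exact Ideal.Quotient.eq.2 (Ideal.subset_span (Or.inr ⟨(j, m), rfl⟩))

/-- The point of the representing algebra given by a structure. -/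
def point {A : Type u} [CommRing A] [Algebra K A] (s : BasedAlg d A) : Rep d K →ₐ[K] A :=
  Ideal.Quotient.liftₐ (rels d K)
    (aeval (Sum.elim (fun t => s.c t.1 t.2.1 t.2.2) s.u)) fun p hp => by
    refine (Ideal.span_le.2 ?_ : rels d K ≤ RingHom.ker
      (aeval (R := K) (Sum.elim (fun t => s.c t.1 t.2.1 t.2.2) s.u)).toRingHom) hp
    rintro _ ((⟨⟨i, j, k⟩, rfl⟩ | ⟨⟨i, j, l, m⟩, rfl⟩) | ⟨⟨j, m⟩, rfl⟩) <;>
      simp only [SetLike.mem_coe, RingHom.mem_ker, AlgHom.toRingHom_eq_coe, RingHom.coe_coe,
        map_sub, map_sum, map_mul, gc, gu, aeval_X, Sum.elim_inl, Sum.elim_inr]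
    · exact sub_eq_zero.2 (s.comm i j k)
    · exact sub_eq_zero.2 (s.assoc i j l m)
    · rw [s.unit]
      split <;> simp

/-- The bijection with based algebra structures. -/
def rep (A : Type u) [CommRing A] [Algebra K A] : (Rep d K →ₐ[K] A) ≃ BasedAlg d A where
  toFun g := univ.map g.toRingHom
  invFun := point
  left_inv g := Ideal.Quotient.algHom_ext K <| MvPolynomial.algHom_ext fun v => by
    show aeval _ (X v) = g (Ideal.Quotient.mk _ (X v))
    rw [aeval_X]
    rcases v with ⟨i, j, k⟩ | i <;> rfl
  right_inv s := BasedAlg.ext' (funext fun i => funext fun j => funext fun k => aeval_X _ _)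
    (funext fun i => aeval_X _ _)

theorem exists_rep (d : ℕ) (K : Type u) [CommRing K] :
    ∃ (B : Type u) (_ : CommRing B) (_ : Algebra K B) (_ : Algebra.FiniteType K B)
      (η : ∀ (A : Type u) [CommRing A] [Algebra K A], (B →ₐ[K] A) ≃ BasedAlg d A),
      ∀ (A A' : Type u) [CommRing A] [Algebra K A] [CommRing A'] [Algebra K A']
        (f : A →ₐ[K] A') (g : B →ₐ[K] A),
        η A' (f.comp g) = (η A g).map f.toRingHom :=
  ⟨Rep d K, inferInstance, inferInstance, inferInstance, fun A _ _ => rep A,
    fun _ _ _ _ _ _ _ _ => rfl⟩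

end Groth.Agent.BasedAlgRep
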